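import Cfsg.Agent.H239.E8P.Io1

/-!
# S5925, box F (P7): the action of the root elements of `W₀`, `W₁` (helper239)
-/

set_option autoImplicit false
set_option linter.unusedSectionVars false

namespace Cfsg.Agent.H239.E8P

open Cfsg.Lie Cfsg.Agent.ChevalleyStructure Cfsg.Agent.ChevalleyStructure.Elts
  Cfsg.Agent.ChevalleyStructure.XColumns Cfsg.Agent.ChevalleyStructure.Strings
open Matrix Cfsg.Agent.ChevalleyStructure.StringMem

universe u

variable {K : Type u} [Field K]

theorem ok {r : ℕ} (hr : r < 240) : RootOK chevE8 r := rootOK_of_mem hE hr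

theorem SG_sq (c : Fin 2) (i j : Fin 5) : ((SG c i j : ℤ) : K) * ((SG c i j : ℤ) : K) = 1 := by
  rcases SG_one c i j with h | h <;> rw [h] <;> simp

theorem co_cof (r i : ℕ) : co chevE8 r i = cof r i := by
  rw [co, cof]

theorem pair_eq (r s : ℕ) : ∑ m ∈ Finset.range chevE8.rank, co chevE8 r m * chevE8.cartan m s = pair r s := by
  simp only [co_cof]
  show (Multiset.map (fun m => cof r m * chevE8.cartan m s) ((List.range 8 : List ℕ) : Multiset ℕ)).sum = _
  rw [Multiset.map_coe, Multiset.sum_coe]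
  rfl

/-- `x_r(t)` on a coroot -/
theorem x_cor {r : ℕ} (hr : r < 240) (t : K) (s : ℕ) :
    chevE8.x K r t *ᵥ corv chevE8 K s = corv chevE8 K s - (((pair s r : ℤ) : K) * t) • ev chevE8 K r := by
  have hr' : r < chevE8.nroots := hr
  rw [corv_eq_sum, Matrix.mulVec_sum]
  have : ∀ i ∈ Finset.range chevE8.rank, chevE8.x K r t *ᵥ ((co chevE8 s i : K) • hv chevE8 K i) =
      (co chevE8 s i : K) • hv chevE8 K i -
        ((co chevE8 s i * chevE8.cartan i r : ℤ) : K) • (t • ev chevE8 K r) := by
    intro i hi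
    rw [Matrix.mulVec_smul, x_mulVec_hv hr' (Finset.mem_range.1 hi), smul_sub, smul_smul, smul_smul]
    push_cast
    rw [mul_assoc]
  rw [Finset.sum_congr rfl this, Finset.sum_sub_distrib, ← Finset.sum_smul, ← Int.cast_sum]
  have h2 : (∑ i ∈ Finset.range chevE8.rank, co chevE8 s i * chevE8.cartan i r) = pair s r := pair_eq s r
  rw [h2, smul_smul]

theorem diag_tab : ∀ (i j : Fin 5) (k : Fin 4), (∑ l : Fin 5, if l ≤ k.castSucc then
    ((if i = l then 1 else 0) - (if j = l then 1 else 0) : ℤ) else 0) =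
      (if i ≤ k.castSucc then 1 else 0) - (if j ≤ k.castSucc then 1 else 0) := by
  decide

theorem io1_diag (c : Fin 2) (i j : Fin 5) : io1 K c (E K i i - E K j j) =
    ∑ k : Fin 4, ((((if i ≤ k.castSucc then 1 else 0) - (if j ≤ k.castSucc then 1 else 0) : ℤ)) : K) • HV K c k := by
  rw [io1_apply]
  have h1 : ∀ a b : Fin 5, (if a = b then 0 else (E K i i - E K j j) a b) = 0 := by
    intro a b
    split_ifs with h
    · rfl
    · rw [Matrix.sub_apply, E_ne, E_ne, sub_zero]
      · rintro ⟨rfl, rfl⟩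
        exact h rfl
      · rintro ⟨rfl, rfl⟩
        exact h rfl
  simp only [h1, zero_smul, Finset.sum_const_zero, zero_add]
  refine Finset.sum_congr rfl fun k _ => ?_
  congr 1
  have h4 := congrArg (Int.cast : ℤ → K) (diag_tab i j k)
  rw [← h4]
  push_cast
  refine Finset.sum_congr rfl fun l _ => ?_
  simp only [Matrix.sub_apply, E_apply, and_self_iff]

theorem corv_RT (c : Fin 2) {i j : Fin 5} (hij : i ≠ j) :
    corv chevE8 K (RT c i j) = io1 K c (E K i i - E K j j) := by
  rw [io1_diag]
  funext a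
  rw [Finset.sum_apply]
  rcases a with m | v
  · have h := cof_tab c i j hij m.val m.isLt
    rw [← Fin.sum_univ_def] at h
    have h2 := congrArg (Int.cast : ℤ → K) h
    rw [corv_inl]
    refine Eq.trans h2 ?_
    rw [Int.cast_sum]
    refine Finset.sum_congr rfl fun k _ => ?_
    rw [Int.cast_mul, Pi.smul_apply, smul_eq_mul, HV, corv_inl]
    rfl
  · simp only [corv_inr, Pi.smul_apply, HV, smul_zero, Finset.sum_const_zero]

theorem sum_one (u : ℕ) (N : ℤ) (t : K) :
    (([(u, N)] : List (ℕ × ℤ)).zipIdx.map fun q => ((q.1.2 : K) * t ^ (q.2 + 1)) • ev chevE8 K q.1.1).sum =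
      ((N : K) * t) • ev chevE8 K u := by
  simp

theorem x_EV (c : Fin 2) {i j : Fin 5} (hij : i ≠ j) (t : K) (c' : Fin 2) {k l : Fin 5} (hkl : k ≠ l) :
    chevE8.x K (RT c i j) (((SG c i j : ℤ) : K) * t) *ᵥ EV K c' k l =
      io1 K c' (if c = c' then transvection i j t * E K k l * transvection i j (-t) else E K k l) := by
  have hr := RT_lt c i j hij
  have hs := RT_lt c' k l hkl
  have hok := ok hr
  rw [conj_single hij, EV, Matrix.mulVec_smul]
  by_cases hA : c = c' ∧ i = k ∧ j = l
  · obtain ⟨rfl, rfl, rfl⟩ := hA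
    rw [x_mulVec_ev_self hr, if_pos rfl, if_neg (Ne.symm hij), if_neg (fun h => hij h.1.symm),
      zero_smul, add_zero, sub_zero, sub_zero, io1_E _ hij, EV]
  by_cases hB : c = c' ∧ j = k ∧ i = l
  · obtain ⟨rfl, rfl, rfl⟩ := hB
    rw [← RT_neg c i j hij, x_ev_neg hok, RT_neg c i j hij, if_pos rfl, if_pos rfl, if_pos rfl, if_pos ⟨rfl, rfl⟩,
      corv_RT c hij]
    simp only [map_sub, map_add, map_smul]
    rw [io1_E _ hij, io1_E _ hkl, EV, EV, SG_symm c i j]
    have h1 := SG_sq (K := K) c i j
    match_scalars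
    · ring
    · linear_combination t * h1
    · linear_combination -t * h1
    · linear_combination (-t ^ 2 * ((SG c i j : ℤ) : K)) * h1
  have hne : RT c' k l ≠ RT c i j := by
    intro h
    obtain ⟨e1, e2, e3⟩ := RT_inj _ _ _ hkl _ _ _ hij h
    exact hA ⟨e1.symm, e2.symm, e3.symm⟩
  have hne' : RT c' k l ≠ chevE8.neg (RT c i j) := by
    rw [RT_neg c i j hij]
    intro h
    obtain ⟨e1, e2, e3⟩ := RT_inj _ _ _ hkl _ _ _ hij.symm h
    exact hB ⟨e1.symm, e2.symm, e3.symm⟩
  rw [x_mulVec_ev hr hs hne hne' hok.nodup, chain_tab c i j hij c' k l hkl, tgt]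
  by_cases hc : c = c'
  · subst hc
    rw [if_pos rfl]
    by_cases h1 : j = k
    · subst h1
      have h2 : i ≠ l := fun h => hB ⟨rfl, rfl, h⟩
      rw [if_pos ⟨rfl, rfl, h2⟩, sum_one, if_pos rfl, if_neg (Ne.symm h2), if_neg (fun h => h2 h.2.symm), zero_smul,
        zero_smul, sub_zero, sub_zero, map_add, map_smul, io1_E _ hkl, io1_E _ h2, EV, EV]
      have q1 := SG_sq (K := K) c i j
      have q2 := SG_sq (K := K) c j l
      push_cast
      match_scalars
      · ring
      · linear_combination (t * ((SG c i l : ℤ) : K) * ((SG c j l : ℤ) : K) * ((SG c j l : ℤ) : K)) * q1 +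
          (t * ((SG c i l : ℤ) : K)) * q2
    · rw [if_neg (fun h => h1 h.2.1)]
      by_cases h2 : i = l
      · subst h2
        rw [if_pos ⟨rfl, rfl, h1⟩, sum_one, if_neg h1, if_pos rfl, if_neg (fun h => h1 h.1), zero_smul, zero_smul,
          sub_zero, add_zero, map_sub, map_smul, io1_E _ hkl, io1_E _ (Ne.symm h1), EV, EV]
        have q1 := SG_sq (K := K) c i j
        have q2 := SG_sq (K := K) c k i
        push_cast
        match_scalars
        · ring
        · linear_combination -(t * ((SG c k j : ℤ) : K) * ((SG c k i : ℤ) : K) * ((SG c k i : ℤ) : K)) * q1 -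
            (t * ((SG c k j : ℤ) : K)) * q2
      · rw [if_neg (fun h => h2 h.2.1), if_neg h1, if_neg (Ne.symm h2), if_neg (fun h => h1 h.1), zero_smul,
          zero_smul, zero_smul, add_zero, sub_zero, sub_zero, io1_E _ hkl, EV]
        simp
  · rw [if_neg (fun h => hc h.1), if_neg (fun h => hc h.1), if_neg hc, io1_E _ hkl, EV]
    simp

theorem x_HV (c : Fin 2) {i j : Fin 5} (hij : i ≠ j) (t : K) (c' : Fin 2) (k : Fin 4) :
    chevE8.x K (RT c i j) (((SG c i j : ℤ) : K) * t) *ᵥ HV K c' k =
      io1 K c' (if c = c' then transvection i j t * HK K k * transvection i j (-t) else HK K k) := by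
  have hr := RT_lt c i j hij
  rw [HV, x_cor hr, pair_tab c' k c i j hij]
  by_cases hc : c = c'
  · subst hc
    rw [if_pos rfl, if_pos rfl]
    have h1 : transvection i j t * HK K k * transvection i j (-t) =
        HK K k - (((if k.castSucc = i then 1 else 0) - (if k.castSucc = j then 1 else 0) -
        (if k.succ = i then 1 else 0) + (if k.succ = j then 1 else 0) : ℤ) * t) • E K i j := by
      have hk : k.castSucc ≠ k.succ := (Fin.castSucc_lt_succ).ne
      rw [HK, mul_sub, sub_mul, conj_single hij, conj_single hij]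
      have e1 : ∀ a : Fin 5, (if j = a then t else 0) • E K i a = ((if a = j then 1 else 0) * t) • E K i j := by
        intro a
        by_cases h : a = j
        · rw [h, if_pos rfl, if_pos rfl, one_mul]
        · rw [if_neg h, if_neg (Ne.symm h), zero_mul, zero_smul, zero_smul]
      have e2 : ∀ a : Fin 5, (if a = i then t else 0) • E K a j = ((if a = i then 1 else 0) * t) • E K i j := by
        intro a
        by_cases h : a = i
        · rw [h, if_pos rfl, if_pos rfl, one_mul]
        · rw [if_neg h, if_neg h, zero_mul, zero_smul, zero_smul]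
      have e3 : ∀ a : Fin 5, (if j = a ∧ a = i then t ^ 2 else 0) • E K i j = 0 := by
        intro a
        rw [if_neg (fun h => hij (h.1.trans h.2).symm), zero_smul]
      rw [e1, e1, e2, e2, e3, e3]
      push_cast
      module
    rw [h1, map_sub, map_smul, io1_H, io1_E _ hij, HV, EV, smul_smul]
    congr 2
    push_cast
    ring
  · rw [if_neg (Ne.symm hc), if_neg hc, io1_H, Int.cast_zero, zero_mul, zero_smul, sub_zero, HV]

/-- the root elements of the table act by transvections -/
theorem x_io1 (c : Fin 2) {i j : Fin 5} (hij : i ≠ j) (t : K) (c' : Fin 2) (A : Matrix (Fin 5) (Fin 5) K)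
    (hA : A.trace = 0) :
    chevE8.x K (RT c i j) (((SG c i j : ℤ) : K) * t) *ᵥ io1 K c' A =
      io1 K c' (if c = c' then transvection i j t * A * transvection i j (-t) else A) := by
  by_cases hc : c = c'
  · have h := ext_tr0 (L1 := (Matrix.mulVecLin (chevE8.x K (RT c i j) (((SG c i j : ℤ) : K) * t))) ∘ₗ io1 K c')
      (L2 := io1 K c' ∘ₗ (LinearMap.mulRight K (transvection i j (-t)) ∘ₗ LinearMap.mulLeft K (transvection i j t)))
      (fun k l hkl => ?_) (fun k => ?_) A hA
    · rw [if_pos hc]
      exact h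
    · have h2 := x_EV c hij t c' hkl
      rw [if_pos hc] at h2
      show _ *ᵥ io1 K c' (E K k l) = _
      rw [io1_E _ hkl]
      exact h2
    · have h2 := x_HV c hij t c' k
      rw [if_pos hc] at h2
      show _ *ᵥ io1 K c' (HK K k) = _
      rw [io1_H]
      exact h2
  · have h := ext_tr0 (L1 := (Matrix.mulVecLin (chevE8.x K (RT c i j) (((SG c i j : ℤ) : K) * t))) ∘ₗ io1 K c')
      (L2 := io1 K c')
      (fun k l hkl => ?_) (fun k => ?_) A hA
    · rw [if_neg hc]
      exact h
    · have h2 := x_EV c hij t c' hkl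
      rw [if_neg hc] at h2
      show _ *ᵥ io1 K c' (E K k l) = _
      rw [io1_E _ hkl, h2, io1_E _ hkl]
    · have h2 := x_HV c hij t c' k
      rw [if_neg hc] at h2
      show _ *ᵥ io1 K c' (HK K k) = _
      rw [io1_H, h2, io1_H]

/-! ### Groups acting by conjugations -/

/-- `g` acts on the two copies of `sl₅` as the conjugations by `P c` (with inverse `P' c`) -/
structure Acts (g : GL chevE8.Idx K) (P P' : Fin 2 → Matrix (Fin 5) (Fin 5) K) : Prop where
  mi : ∀ c, P c * P' c = 1
  im : ∀ c, P' c * P c = 1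
  act : ∀ c (A : Matrix (Fin 5) (Fin 5) K), A.trace = 0 →
    (g : Matrix chevE8.Idx chevE8.Idx K) *ᵥ io1 K c A = io1 K c (P c * A * P' c)

theorem trace_conj {P P' : Matrix (Fin 5) (Fin 5) K} (h : P' * P = 1) (A : Matrix (Fin 5) (Fin 5) K) :
    (P * A * P').trace = A.trace := by
  rw [Matrix.trace_mul_comm, ← mul_assoc, h, one_mul]

theorem Acts.one : Acts (1 : GL chevE8.Idx K) (fun _ => 1) (fun _ => 1) where
  mi _ := one_mul _
  im _ := one_mul _
  act c A _ := by rw [Units.val_one, Matrix.one_mulVec, one_mul, mul_one]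

theorem Acts.mul {g g' : GL chevE8.Idx K} {P P' Q Q' : Fin 2 → Matrix (Fin 5) (Fin 5) K} (h : Acts g P P')
    (h' : Acts g' Q Q') : Acts (g * g') (fun c => P c * Q c) (fun c => Q' c * P' c) where
  mi c := by rw [mul_assoc, ← mul_assoc (Q c), h'.mi, one_mul, h.mi]
  im c := by rw [mul_assoc, ← mul_assoc (P' c), h.im, one_mul, h'.im]
  act c A hA := by
    rw [Units.val_mul, ← Matrix.mulVec_mulVec, h'.act c A hA, h.act c _ (by rw [trace_conj (h'.im c), hA])]
    simp only [mul_assoc]

theorem Acts.inv {g : GL chevE8.Idx K} {P P' : Fin 2 → Matrix (Fin 5) (Fin 5) K} (h : Acts g P P') :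
    Acts g⁻¹ P' P where
  mi c := h.im c
  im c := h.mi c
  act c A hA := by
    have h1 := h.act c (P' c * A * P c) (by rw [trace_conj (h.mi c), hA])
    have h2 : P c * (P' c * A * P c) * P' c = A := by
      simp only [mul_assoc, h.mi, mul_one]
      rw [← mul_assoc, h.mi, one_mul]
    rw [h2] at h1
    rw [← h1, Matrix.mulVec_mulVec, ← Units.val_mul, inv_mul_cancel, Units.val_one, Matrix.one_mulVec]

theorem acts_xG (c : Fin 2) {i j : Fin 5} (hij : i ≠ j) (t : K) :
    ∃ P P', Acts (xG hE (RT c i j) t) P P' := by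
  refine ⟨fun c' => if c = c' then transvection i j (((SG c i j : ℤ) : K) * t) else 1,
    fun c' => if c = c' then transvection i j (-(((SG c i j : ℤ) : K) * t)) else 1, fun c' => ?_, fun c' => ?_,
    fun c' A hA => ?_⟩
  · by_cases hc : c = c'
    · simp only [if_pos hc]
      rw [Matrix.transvection_mul_transvection_same _ _ hij, add_neg_cancel, Matrix.transvection_zero]
    · simp only [if_neg hc, one_mul]
  · by_cases hc : c = c'
    · simp only [if_pos hc]
      rw [Matrix.transvection_mul_transvection_same _ _ hij, neg_add_cancel, Matrix.transvection_zero]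
    · simp only [if_neg hc, one_mul]
  · have h := x_io1 c hij (((SG c i j : ℤ) : K) * t) c' A hA
    rw [← mul_assoc, SG_sq, one_mul] at h
    rw [coe_xG, h]
    by_cases hc : c = c'
    · simp only [if_pos hc]
    · simp only [if_neg hc, one_mul, mul_one]

theorem acts_closure {s : Set (GL chevE8.Idx K)} (hs : ∀ g ∈ s, ∃ P P', Acts g P P') {g : GL chevE8.Idx K}
    (hg : g ∈ Subgroup.closure s) : ∃ P P', Acts g P P' := by
  induction hg using Subgroup.closure_induction with
  | mem x hx => exact hs x hx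
  | one => exact ⟨_, _, Acts.one⟩
  | mul a b _ _ ha hb =>
    obtain ⟨P, P', h⟩ := ha
    obtain ⟨Q, Q', h'⟩ := hb
    exact ⟨_, _, h.mul h'⟩
  | inv a _ ha =>
    obtain ⟨P, P', h⟩ := ha
    exact ⟨_, _, h.inv⟩

end Cfsg.Agent.H239.E8P
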