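import Cfsg.Agent.H239.E8P.Tor
import Cfsg.Agent.H576.E8L.Io

/-!
# S5925, box F (P7): anti-automorphisms of the two copies of `sl₅` (helper239)
-/

set_option autoImplicit false
set_option linter.unusedSectionVars false

namespace Cfsg.Agent.H239.E8P

open Cfsg.Lie Cfsg.Agent.ChevalleyStructure Cfsg.Agent.ChevalleyStructure.Elts
  Cfsg.Agent.ChevalleyStructure.XColumns Cfsg.Agent.ChevalleyStructure.Strings
open Cfsg.Agent.H576.E8L
open Matrix

section
variable {K : Type*} [Field K]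

theorem rv_eq (r : ℕ) : Cfsg.Agent.H576.E8L.rv K r = ev chevE8 K r := by
  funext a
  rcases a with i | u
  · rw [rv_inl, ev_inl]
  · rw [rv_inr, ev_inr]

theorem hv_eq (r : ℕ) : Cfsg.Agent.H576.E8L.hv K r = corv chevE8 K r := by
  funext a
  rcases a with i | u
  · rfl
  · rfl

theorem tab0 : ∀ i j : Fin 5, i ≠ j → w0 i j = RT 0 i j ∧ s0 i j = SG 0 i j := by decide +kernel
theorem tab1 : ∀ i j : Fin 5, i ≠ j → w1 i j = RT 1 i j ∧ s1 i j = SG 1 i j := by decide +kernel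

theorem WM_eq {w : Fin 5 → Fin 5 → ℕ} {s : Fin 5 → Fin 5 → ℤ} (c : Fin 2)
    (h : ∀ i j : Fin 5, i ≠ j → w i j = RT c i j ∧ s i j = SG c i j) (A : Matrix (Fin 5) (Fin 5) K) :
    WM K w s A = io1 K c A := by
  rw [WM_apply, io1_apply]
  congr 1
  · refine Finset.sum_congr rfl fun i _ => Finset.sum_congr rfl fun j _ => ?_
    by_cases hij : i = j
    · rw [if_pos hij, if_pos hij, zero_smul]
    · rw [if_neg hij, if_neg hij, (h i j hij).1, (h i j hij).2, rv_eq, EV, smul_smul, mul_comm]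
  · refine Finset.sum_congr rfl fun k _ => ?_
    rw [(h _ _ (Fin.castSucc_lt_succ).ne).1, hv_eq]
    rfl

theorem io_eq (A0 A1 : Matrix (Fin 5) (Fin 5) K) : io K (A0, A1) = io1 K 0 A0 + io1 K 1 A1 := by
  rw [io_apply, WM_eq 0 tab0, WM_eq 1 tab1]

theorem io1_inj [CharP K 3] (c : Fin 2) {A B : Matrix (Fin 5) (Fin 5) K} (hA : A.trace = 0) (hB : B.trace = 0)
    (h : io1 K c A = io1 K c B) : A = B := by
  have h0 : (0 : Matrix (Fin 5) (Fin 5) K).trace = 0 := Matrix.trace_zero ..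
  fin_cases c
  · exact (io_inj hA h0 hB h0 (by rw [io_eq, io_eq]; exact congrArg (fun v => v + io1 K 1 0) h)).1
  · exact (io_inj h0 hA h0 hB (by rw [io_eq, io_eq]; exact congrArg (fun v => io1 K 0 0 + v) h)).2

end

universe u

variable {K : Type u} [Field K]

/-- `g` acts on the two copies of `sl₅` as `A ↦ -q⁻¹ Aᵀ q` -/
structure Anti (g : GL chevE8.Idx K) (q q' : Fin 2 → Matrix (Fin 5) (Fin 5) K) : Prop where
  mi : ∀ c, q c * q' c = 1
  im : ∀ c, q' c * q c = 1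
  act : ∀ c (A : Matrix (Fin 5) (Fin 5) K), A.trace = 0 →
    (g : Matrix chevE8.Idx chevE8.Idx K) *ᵥ io1 K c A = io1 K c (-(q' c * Aᵀ * q c))

theorem trace_anti {q q' : Matrix (Fin 5) (Fin 5) K} (h : q * q' = 1) (A : Matrix (Fin 5) (Fin 5) K) :
    (-(q' * Aᵀ * q)).trace = -A.trace := by
  rw [Matrix.trace_neg, Matrix.trace_mul_comm, ← mul_assoc, h, one_mul, Matrix.trace_transpose]

theorem Acts.mul_anti {g g' : GL chevE8.Idx K} {P P' q q' : Fin 2 → Matrix (Fin 5) (Fin 5) K} (h : Acts g P P')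
    (h' : Anti g' q q') : Anti (g * g') (fun c => q c * P' c) (fun c => P c * q' c) where
  mi c := by rw [mul_assoc, ← mul_assoc (P' c), h.im, one_mul, h'.mi]
  im c := by rw [mul_assoc, ← mul_assoc (q' c), h'.im, one_mul, h.mi]
  act c A hA := by
    rw [Units.val_mul, ← Matrix.mulVec_mulVec, h'.act c A hA, h.act c _ (by rw [trace_anti (h'.mi c), hA, neg_zero])]
    simp only [mul_assoc, mul_neg, neg_mul]

/-- the form of an anti-automorphism of order 2 -/
theorem Anti.invol [CharP K 3] {g : GL chevE8.Idx K} {q q' : Fin 2 → Matrix (Fin 5) (Fin 5) K} (h : Anti g q q')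
    (h2 : g * g = 1) (c : Fin 2) {A : Matrix (Fin 5) (Fin 5) K} (hA : A.trace = 0) :
    q' c * (q' c * Aᵀ * q c)ᵀ * q c = A := by
  have h3 := trace_anti (h.mi c) A
  rw [hA, neg_zero] at h3
  have h1 := h.act c _ h3
  rw [← h.act c A hA, Matrix.mulVec_mulVec, ← Units.val_mul, h2, Units.val_one, Matrix.one_mulVec,
    Matrix.transpose_neg, mul_neg, neg_mul, neg_neg] at h1
  refine (io1_inj c hA ?_ h1).symm
  have h4 := trace_anti (h.mi c) (q' c * Aᵀ * q c)
  rw [Matrix.trace_neg, neg_inj] at h4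
  rw [h4]
  rw [Matrix.trace_neg, neg_eq_zero] at h3
  exact h3

/-- the combined form on `io` -/
theorem Anti.io_act {g : GL chevE8.Idx K} {q q' : Fin 2 → Matrix (Fin 5) (Fin 5) K} (h : Anti g q q')
    {A0 A1 : Matrix (Fin 5) (Fin 5) K} (h0 : A0.trace = 0) (h1 : A1.trace = 0) :
    (g : Matrix chevE8.Idx chevE8.Idx K) *ᵥ io K (A0, A1) =
      io K (-(q' 0 * A0ᵀ * q 0), -(q' 1 * A1ᵀ * q 1)) := by
  rw [io_eq, io_eq, Matrix.mulVec_add, h.act 0 A0 h0, h.act 1 A1 h1]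

theorem Acts.io_act {g : GL chevE8.Idx K} {P P' : Fin 2 → Matrix (Fin 5) (Fin 5) K} (h : Acts g P P')
    {A0 A1 : Matrix (Fin 5) (Fin 5) K} (h0 : A0.trace = 0) (h1 : A1.trace = 0) :
    (g : Matrix chevE8.Idx chevE8.Idx K) *ᵥ io K (A0, A1) = io K (P 0 * A0 * P' 0, P 1 * A1 * P' 1) := by
  rw [io_eq, io_eq, Matrix.mulVec_add, h.act 0 A0 h0, h.act 1 A1 h1]

end Cfsg.Agent.H239.E8P
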