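import Cfsg.Agent.H239.E8P.Anti
import Cfsg.Agent.H277.E83.Symm

/-!
# S5925, box F (P7): assembly (helper239)
-/

set_option autoImplicit false
set_option linter.unusedSectionVars false

namespace Cfsg.Agent.H239.E8P

open Cfsg.Lie Cfsg.Agent.ChevalleyStructure Cfsg.Agent.ChevalleyStructure.Elts
open Cfsg.Agent.H576.E8L
open Matrix

universe u

variable {K : Type u} [Field K]

theorem det_unit {q q' : Matrix (Fin 5) (Fin 5) K} (h : q * q' = 1) : IsUnit q.det := by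
  have h1 := congrArg Matrix.det h
  rw [Matrix.det_mul, Matrix.det_one] at h1
  exact IsUnit.of_mul_eq_one _ h1

/-- **the element `t` with `t h t⁻¹ = h⁻¹`**: from the lift `t₀` of `-1` and the centralizer of `h` -/
theorem core [CharP K 3] {t t₀ m s : GL chevE8.Idx K}
    (hm : m ∈ Subgroup.closure {x : GL chevE8.Idx K | ∃ (c : Fin 2) (i j : Fin 5) (a : K), i ≠ j ∧
      x = xG hE (RT c i j) a})
    (hs : s ∈ chevE8.diagonalSubgroup K) {d : Fin 2 → Fin 5 → K} (hd : ∀ c i, d c i * d c i = 1)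
    (h0 : ∀ c (A : Matrix (Fin 5) (Fin 5) K), A.trace = 0 → (t₀ : Matrix chevE8.Idx chevE8.Idx K) *ᵥ io1 K c A =
      io1 K c (-(Matrix.diagonal (d c) * Aᵀ * Matrix.diagonal (d c))))
    (ht : t = m * s * t₀) (h2 : t * t = 1) :
    ∃ q0 q1 : Matrix (Fin 5) (Fin 5) K, IsUnit q0.det ∧ IsUnit q1.det ∧ q0ᵀ = q0 ∧ q1ᵀ = q1 ∧
      ∀ A0 A1 : Matrix (Fin 5) (Fin 5) K, A0.trace = 0 → A1.trace = 0 →
        (t : Matrix chevE8.Idx chevE8.Idx K) *ᵥ io K (A0, A1) = io K (-(q0⁻¹ * A0ᵀ * q0), -(q1⁻¹ * A1ᵀ * q1)) := by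
  obtain ⟨P, P', hP⟩ := acts_closure (s := {x : GL chevE8.Idx K | ∃ (c : Fin 2) (i j : Fin 5) (a : K), i ≠ j ∧
      x = xG hE (RT c i j) a}) (by
    rintro x ⟨c, i, j, a, hij, rfl⟩
    exact acts_xG c hij a) hm
  obtain ⟨R, R', hR⟩ := acts_diag hs
  have hdd : ∀ c, Matrix.diagonal (d c) * Matrix.diagonal (d c) = 1 := by
    intro c
    rw [Matrix.diagonal_mul_diagonal, ← Matrix.diagonal_one]
    congr 1
    funext i
    exact hd c i
  have hA0 : Anti t₀ (fun c => Matrix.diagonal (d c)) (fun c => Matrix.diagonal (d c)) := ⟨hdd, hdd, h0⟩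
  have hA := (hP.mul hR).mul_anti hA0
  rw [← ht] at hA
  obtain ⟨q, hq⟩ : ∃ q : Fin 2 → Matrix (Fin 5) (Fin 5) K, q = fun c => Matrix.diagonal (d c) * (R' c * P' c) :=
    ⟨_, rfl⟩
  obtain ⟨q', hq'⟩ : ∃ q' : Fin 2 → Matrix (Fin 5) (Fin 5) K, q' = fun c => P c * R c * Matrix.diagonal (d c) :=
    ⟨_, rfl⟩
  rw [← hq, ← hq'] at hA
  have hsym : ∀ c, (q c)ᵀ = q c := fun c =>
    Cfsg.Agent.H277.E83.symm_of_invol (q c) (q' c) (hA.mi c) (hA.im c) fun i j hij =>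
      hA.invol h2 c (Matrix.trace_single_eq_of_ne i j _ hij)
  have hinv : ∀ c, (q c)⁻¹ = q' c := fun c => Matrix.inv_eq_right_inv (hA.mi c)
  refine ⟨q 0, q 1, det_unit (hA.mi 0), det_unit (hA.mi 1), hsym 0, hsym 1, fun A0 A1 h0 h1 => ?_⟩
  rw [hinv, hinv]
  exact hA.io_act h0 h1

end Cfsg.Agent.H239.E8P
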