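import Cfsg.Prelude.Def_ChevE8
import Cfsg.Prelude.Def_ChevStructure

/-!
# S5925, box F (P7): tables (helper239)

The torus element `h` with the values `w ^ (4, 4, 4, 4, 1, 4, 4, 4)` on the simple roots kills the 40 roots of `W₀` and
`W₁` (two components of type `A₄`); `RT c i j` is the index of the root `e_i - e_j` of the `c`-th component and `SG c i j`
its sign (`tools/plans/S5925_code/frame.txt`).
-/

set_option autoImplicit false
set_option maxRecDepth 100000

namespace Cfsg.Agent.H239.E8P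

open Cfsg.Lie

def RTl : List (List (List ℕ)) :=
  [[[240, 31, 6, 64, 24], [208, 240, 60, 151, 108], [233, 179, 240, 212, 172], [175, 88, 27, 240, 81], [215,
  131, 67, 158, 240]], [[240, 7, 20, 51, 55], [232, 240, 168, 199, 203], [219, 71, 240, 154, 159], [188, 40, 85,
  240, 127], [184, 36, 80, 112, 240]]]

def SGl : List (List (List ℤ)) :=
  [[[1, 1, 1, -1, 1], [1, 1, 1, -1, -1], [1, 1, 1, 1, 1], [-1, -1, 1, 1, 1], [1, -1, 1, 1, 1]], [[1, 1, -1, -1,
  1], [1, 1, 1, -1, 1], [-1, 1, 1, 1, -1], [-1, -1, 1, 1, 1], [1, 1, -1, 1, 1]]]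

/-- the index of the root `e_i - e_j` of the component `c` -/
def RT (c : Fin 2) (i j : Fin 5) : ℕ := ((RTl.getD c.val []).getD i.val []).getD j.val 240

/-- the sign of the root vector `E_ij` of the component `c` -/
def SG (c : Fin 2) (i j : Fin 5) : ℤ := ((SGl.getD c.val []).getD i.val []).getD j.val 1

/-- the expected chain entry -/
def tgt (c : Fin 2) (i j : Fin 5) (c' : Fin 2) (i' j' : Fin 5) : List (ℕ × ℤ) :=
  if c = c' ∧ j = i' ∧ i ≠ j' then [(RT c i j', SG c i j' * (SG c i j * SG c' i' j'))]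
  else if c = c' ∧ i = j' ∧ j ≠ i' then [(RT c i' j, -(SG c i' j * (SG c i j * SG c' i' j')))]
  else []

theorem chain_tab : ∀ (c : Fin 2) (i j : Fin 5), i ≠ j → ∀ (c' : Fin 2) (i' j' : Fin 5), i' ≠ j' →
    chevE8.chainEntry (RT c i j) (RT c' i' j') = tgt c i j c' i' j' := by
  decide +kernel

theorem RT_lt : ∀ (c : Fin 2) (i j : Fin 5), i ≠ j → RT c i j < 240 := by decide +kernel

theorem RT_neg : ∀ (c : Fin 2) (i j : Fin 5), i ≠ j → chevE8.neg (RT c i j) = RT c j i := by decide +kernel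

theorem RT_inj : ∀ (c : Fin 2) (i j : Fin 5), i ≠ j → ∀ (c' : Fin 2) (i' j' : Fin 5), i' ≠ j' →
    RT c i j = RT c' i' j' → c = c' ∧ i = i' ∧ j = j' := by decide +kernel

theorem SG_one : ∀ (c : Fin 2) (i j : Fin 5), SG c i j = 1 ∨ SG c i j = -1 := by decide +kernel

theorem SG_symm : ∀ (c : Fin 2) (i j : Fin 5), SG c j i = SG c i j := by decide +kernel

/-- coefficient of the coroot on the fundamental coroots -/
def cof (r j : ℕ) : ℤ := (chevE8.coroot.getD r #[]).getD j 0

/-- the pairing of coroots and roots -/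
def pair (r s : ℕ) : ℤ := ((List.range 8).map fun m => cof r m * chevE8.cartan m s).sum

theorem pair_tab : ∀ (c : Fin 2) (k : Fin 4) (c' : Fin 2) (i j : Fin 5), i ≠ j →
    pair (RT c k.castSucc k.succ) (RT c' i j) =
      if c = c' then (if k.castSucc = i then 1 else 0) - (if k.castSucc = j then 1 else 0) -
        (if k.succ = i then 1 else 0) + (if k.succ = j then 1 else 0) else 0 := by
  decide +kernel

theorem cof_tab : ∀ (c : Fin 2) (i j : Fin 5), i ≠ j → ∀ m < 8, cof (RT c i j) m =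
    ((List.finRange 4).map fun k : Fin 4 => ((if i ≤ k.castSucc then 1 else 0) - (if j ≤ k.castSucc then 1 else 0)) *
      cof (RT c k.castSucc k.succ) m).sum := by
  decide +kernel

/-- the exponents of `h` on the simple roots -/
def yv : List ℤ := [-1, -1, -1, -1, 1, -1, -1, -1]

/-- the exponent of `h` on the root `s` -/
def mv (s : ℕ) : ℤ := ((List.range 8).map fun m => cof s m * yv.getD m 0).sum

theorem mem_of_mv : ∀ s < 240, mv s % 5 = 0 → ∃ (c : Fin 2) (i j : Fin 5), i ≠ j ∧ s = RT c i j := by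
  decide +kernel

theorem mv_RT : ∀ (c : Fin 2) (i j : Fin 5), i ≠ j → mv (RT c i j) % 5 = 0 := by decide +kernel

/-- the roots of exponent `3` (for `c = 0`) and `4` (for `c = 1`), with the index `a` such that `E_ij` (component `c`) acts
nontrivially only for `i = a`, and the set `X` such that `E_ij` (other component) acts nontrivially only for `i ∈ X`,
`j ∉ X` -/
def LTl : List (List (ℕ × ℕ × ℕ)) :=
  [[(1, 2, 6), (9, 2, 10), (11, 2, 18), (15, 4, 6), (17, 1, 6), (29, 2, 12), (34, 2, 20), (38, 4, 10), (42, 3,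
  6), (43, 4, 18), (47, 1, 10), (52, 1, 18), (56, 2, 3), (69, 2, 24), (73, 3, 10), (75, 3, 18), (83, 4, 12),
  (87, 4, 20), (90, 1, 12), (92, 1, 20), (94, 2, 5), (100, 0, 6), (105, 4, 3), (114, 1, 3), (122, 3, 12), (124,
  4, 24), (129, 3, 20), (133, 1, 24), (136, 2, 9), (138, 2, 17), (142, 0, 10), (144, 0, 18), (148, 3, 3), (161,
  3, 24), (163, 4, 5), (165, 1, 5), (177, 0, 12), (182, 0, 20), (186, 4, 9), (190, 3, 5), (191, 4, 17), (195, 1,
  9), (200, 1, 17), (204, 0, 3), (217, 0, 24), (221, 3, 9), (223, 3, 17), (227, 0, 5), (235, 0, 9), (237, 0,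
  17)],
  [(0, 1, 22), (8, 1, 28), (10, 1, 14), (14, 2, 22), (25, 2, 28), (28, 3, 22), (32, 2, 14), (33, 4, 22), (37, 1,
  21), (41, 1, 26), (46, 1, 7), (61, 3, 28), (65, 4, 28), (68, 3, 14), (70, 4, 14), (72, 1, 13), (82, 2, 21),
  (86, 2, 26), (89, 2, 7), (93, 0, 22), (99, 1, 19), (113, 3, 21), (120, 2, 13), (121, 3, 26), (123, 4, 21),
  (128, 4, 26), (130, 3, 7), (132, 4, 7), (135, 0, 28), (137, 0, 14), (141, 1, 25), (143, 1, 11), (155, 3, 13),
  (160, 4, 13), (162, 2, 19), (173, 2, 25), (176, 3, 19), (180, 2, 11), (181, 4, 19), (185, 0, 21), (189, 0,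
  26), (194, 0, 7), (209, 3, 25), (213, 4, 25), (216, 3, 11), (218, 4, 11), (220, 0, 13), (226, 0, 19), (234, 0,
  25), (236, 0, 11)]]

/-- roots of exponent `2` (for `c = 0`) and `1` (for `c = 1`) moved by all `E_ia`, `i ≠ a` -/
def SAl : List (List ℕ) := [[2, 39, 101, 16, 48], [3, 96, 59, 23, 21]]

def SA (c : Fin 2) (a : Fin 5) : ℕ := (SAl.getD c.val []).getD a.val 0

/-- the exponent of `SA` -/
def mu (c : Fin 2) : ℤ := if c = 0 then 2 else 1

theorem SA_lt : ∀ (c : Fin 2) (a : Fin 5), SA c a < 240 := by decide +kernel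

theorem SA_mv : ∀ (c : Fin 2) (a : Fin 5), (mv (SA c a) - mu c) % 5 = 0 := by decide +kernel

/-- a chain entry of length one with a sign -/
def okE (r s : ℕ) : Bool :=
  match chevE8.chainEntry r s with
  | [(u, N)] => decide (u < 240) && (decide (N = 1) || decide (N = -1))
  | _ => false

theorem SA_chain : ∀ (c : Fin 2) (i a : Fin 5), i ≠ a → okE (RT c i a) (SA c a) = true := by decide +kernel

theorem LT_mem : ∀ c : Fin 2, ∀ s < 240, (mv s + mu c) % 5 = 0 → ∃ e ∈ LTl.getD c.val [], e.1 = s := by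
  decide +kernel

theorem LT_size : ∀ c : Fin 2, ∀ e ∈ LTl.getD c.val [], e.2.1 < 5 ∧ e.2.2 < 32 ∧
    (((List.range 5).filter fun k => e.2.2.testBit k).length = 2 ∨
      ((List.range 5).filter fun k => e.2.2.testBit k).length = 3) := by
  decide +kernel

theorem LT_self : ∀ c : Fin 2, ∀ e ∈ LTl.getD c.val [], ∀ i j : Fin 5, i ≠ j →
    chevE8.chainEntry (RT c i j) e.1 ≠ [] → i.val = e.2.1 := by
  decide +kernel

theorem LT_other : ∀ c : Fin 2, ∀ e ∈ LTl.getD c.val [], ∀ i j : Fin 5, i ≠ j →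
    chevE8.chainEntry (RT (1 - c) i j) e.1 ≠ [] → e.2.2.testBit i.val = true ∧ e.2.2.testBit j.val = false := by
  decide +kernel

end Cfsg.Agent.H239.E8P
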