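import Cfsg.Agent.H239.E8P.Mono
import Cfsg.Agent.H239.E8P.Tab
import Cfsg.Agent.ChevalleyStructure.StringMem

/-!
# S5925, box F (P7): root elements of `W₀`, `W₁` on the two copies of `sl₅` (helper239)
-/

set_option autoImplicit false
set_option linter.unusedSectionVars false

namespace Cfsg.Agent.H239.E8P

open Cfsg.Lie Cfsg.Agent.ChevalleyStructure Cfsg.Agent.ChevalleyStructure.Elts
  Cfsg.Agent.ChevalleyStructure.XColumns Cfsg.Agent.ChevalleyStructure.Strings
open Matrix

universe u

variable {K : Type u} [Field K]

theorem hE : InList chevE8 := by simp [InList]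

variable (K) in
/-- the matrix unit -/
abbrev E (i j : Fin 5) : Matrix (Fin 5) (Fin 5) K := Matrix.single i j 1

theorem E_apply (i j a b : Fin 5) : E K i j a b = if i = a ∧ j = b then 1 else 0 := Matrix.single_apply _ _ _ _ _

theorem E_same (i j : Fin 5) : E K i j i j = 1 := Matrix.single_apply_same _ _ _

theorem E_ne {i j a b : Fin 5} (h : ¬ (i = a ∧ j = b)) : E K i j a b = 0 := by rw [E_apply, if_neg h]

variable (K) in
/-- `E_ij` of the component `c` -/
def EV (c : Fin 2) (i j : Fin 5) : chevE8.Idx → K := ((SG c i j : ℤ) : K) • ev chevE8 K (RT c i j)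

variable (K) in
/-- `E_kk - E_{k+1,k+1}` of the component `c` -/
def HV (c : Fin 2) (k : Fin 4) : chevE8.Idx → K := corv chevE8 K (RT c k.castSucc k.succ)

variable (K) in
/-- the embedding of the trace zero matrices (component `c`) -/
noncomputable def io1 (c : Fin 2) : Matrix (Fin 5) (Fin 5) K →ₗ[K] (chevE8.Idx → K) where
  toFun A := (∑ i : Fin 5, ∑ j : Fin 5, (if i = j then 0 else A i j) • EV K c i j) +
    ∑ k : Fin 4, (∑ l : Fin 5, if l ≤ k.castSucc then A l l else 0) • HV K c k
  map_add' A B := by
    have h1 : ∀ i j : Fin 5, (if i = j then 0 else (A + B) i j) • EV K c i j =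
        (if i = j then 0 else A i j) • EV K c i j + (if i = j then 0 else B i j) • EV K c i j := by
      intro i j
      split_ifs
      · simp
      · rw [Matrix.add_apply, add_smul]
    have h2 : ∀ k : Fin 4, (∑ l : Fin 5, if l ≤ k.castSucc then (A + B) l l else 0) • HV K c k =
        (∑ l : Fin 5, if l ≤ k.castSucc then A l l else 0) • HV K c k +
        (∑ l : Fin 5, if l ≤ k.castSucc then B l l else 0) • HV K c k := by
      intro k
      rw [← add_smul, ← Finset.sum_add_distrib]
      congr 1
      refine Finset.sum_congr rfl fun l _ => ?_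
      split_ifs
      · rfl
      · simp
    simp only [h1, h2, Finset.sum_add_distrib]
    abel
  map_smul' a A := by
    have h1 : ∀ i j : Fin 5, (if i = j then 0 else (a • A) i j) • EV K c i j =
        a • ((if i = j then 0 else A i j) • EV K c i j) := by
      intro i j
      split_ifs
      · simp
      · rw [Matrix.smul_apply, smul_smul, smul_eq_mul]
    have h2 : ∀ k : Fin 4, (∑ l : Fin 5, if l ≤ k.castSucc then (a • A) l l else 0) • HV K c k =
        a • ((∑ l : Fin 5, if l ≤ k.castSucc then A l l else 0) • HV K c k) := by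
      intro k
      rw [smul_smul, Finset.mul_sum]
      congr 1
      refine Finset.sum_congr rfl fun l _ => ?_
      split_ifs
      · rfl
      · simp
    simp only [h1, h2, ← Finset.smul_sum, ← smul_add, RingHom.id_apply]

theorem io1_apply (c : Fin 2) (A : Matrix (Fin 5) (Fin 5) K) :
    io1 K c A = (∑ i : Fin 5, ∑ j : Fin 5, (if i = j then 0 else A i j) • EV K c i j) +
    ∑ k : Fin 4, (∑ l : Fin 5, if l ≤ k.castSucc then A l l else 0) • HV K c k := rfl

theorem io1_E (c : Fin 2) {i j : Fin 5} (hij : i ≠ j) : io1 K c (E K i j) = EV K c i j := by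
  rw [io1_apply]
  have h2 : ∀ k : Fin 4, (∑ l : Fin 5, if l ≤ k.castSucc then (E K i j) l l else 0) = 0 := by
    intro k
    refine Finset.sum_eq_zero fun l _ => ?_
    split_ifs
    · rw [E_ne]
      rintro ⟨rfl, rfl⟩
      exact hij rfl
    · rfl
  simp only [h2, zero_smul, Finset.sum_const_zero, add_zero]
  rw [Finset.sum_eq_single i, Finset.sum_eq_single j]
  · rw [if_neg hij, E_same, one_smul]
  · intro b _ hb
    rw [E_ne (fun h => hb h.2.symm)]
    simp
  · simp
  · intro a _ ha
    refine Finset.sum_eq_zero fun b _ => ?_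
    rw [E_ne (fun h => ha h.1.symm)]
    simp
  · simp

variable (K) in
/-- `E_kk - E_{k+1,k+1}` -/
def HK (k : Fin 4) : Matrix (Fin 5) (Fin 5) K := E K k.castSucc k.castSucc - E K k.succ k.succ

theorem HK_tab : ∀ k k' : Fin 4, (∑ l : Fin 5, if l ≤ k'.castSucc then
    ((if k.castSucc = l then 1 else 0) - (if k.succ = l then 1 else 0) : ℤ) else 0) = if k' = k then 1 else 0 := by
  decide

theorem io1_H (c : Fin 2) (k : Fin 4) : io1 K c (HK K k) = HV K c k := by
  rw [io1_apply]
  have h1 : ∀ i j : Fin 5, (if i = j then 0 else (HK K k) i j) = 0 := by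
    intro i j
    split_ifs with h
    · rfl
    · rw [HK, Matrix.sub_apply, E_ne, E_ne, sub_zero]
      · rintro ⟨rfl, rfl⟩
        exact h rfl
      · rintro ⟨rfl, rfl⟩
        exact h rfl
  have h2 : ∀ k' : Fin 4, (∑ l : Fin 5, if l ≤ k'.castSucc then (HK K k) l l else 0) = if k' = k then 1 else 0 := by
    intro k'
    have h3 : ∀ l : Fin 5, (HK K k) l l = (if k.castSucc = l then 1 else 0) - (if k.succ = l then 1 else 0) := by
      intro l
      simp only [HK, Matrix.sub_apply, E_apply, and_self_iff]
    simp only [h3]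
    have h4 := congrArg (Int.cast : ℤ → K) (HK_tab k k')
    push_cast at h4
    exact h4
  simp only [h1, h2, zero_smul, Finset.sum_const_zero, zero_add, ite_smul, one_smul, Finset.sum_ite_eq',
    Finset.mem_univ, if_true]

theorem decomp (A : Matrix (Fin 5) (Fin 5) K) (hA : A.trace = 0) :
    A = (∑ i : Fin 5, ∑ j : Fin 5, (if i = j then 0 else A i j) • E K i j) +
      ∑ k : Fin 4, (∑ l : Fin 5, if l ≤ k.castSucc then A l l else 0) • HK K k := by
  have h1 : (∑ i : Fin 5, ∑ j : Fin 5, (if i = j then 0 else A i j) • E K i j) =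
      Matrix.of fun i j => if i = j then 0 else A i j := by
    conv_rhs => rw [Matrix.matrix_eq_sum_single (Matrix.of fun i j => if i = j then 0 else A i j)]
    refine Finset.sum_congr rfl fun i _ => Finset.sum_congr rfl fun j _ => ?_
    rw [Matrix.smul_single, smul_eq_mul, mul_one, Matrix.of_apply]
  rw [h1]
  rw [Matrix.trace, Fin.sum_univ_five] at hA
  simp only [Matrix.diag_apply] at hA
  ext i j
  rw [Matrix.add_apply, Matrix.of_apply, Matrix.sum_apply]
  by_cases hij : i = j
  · subst hij
    rw [if_pos rfl, zero_add]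
    simp only [Matrix.smul_apply, HK, Matrix.sub_apply, E_apply, and_self_iff, smul_eq_mul]
    fin_cases i <;> simp [Fin.sum_univ_five, Fin.sum_univ_four] <;>
      first
      | ring1
      | linear_combination hA
  · rw [if_neg hij]
    have : ∀ k : Fin 4, ((∑ l : Fin 5, if l ≤ k.castSucc then A l l else 0) • HK K k) i j = 0 := by
      intro k
      rw [Matrix.smul_apply, HK, Matrix.sub_apply, E_ne, E_ne, sub_zero,
        smul_zero]
      · rintro ⟨rfl, rfl⟩
        exact hij rfl
      · rintro ⟨rfl, rfl⟩
        exact hij rfl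
    simp only [this, Finset.sum_const_zero, add_zero]

theorem ext_tr0 {V : Type*} [AddCommGroup V] [Module K V] {L1 L2 : Matrix (Fin 5) (Fin 5) K →ₗ[K] V}
    (h1 : ∀ k l, k ≠ l → L1 (E K k l) = L2 (E K k l)) (h2 : ∀ k, L1 (HK K k) = L2 (HK K k))
    (A : Matrix (Fin 5) (Fin 5) K) (hA : A.trace = 0) : L1 A = L2 A := by
  have key : ∀ L : Matrix (Fin 5) (Fin 5) K →ₗ[K] V, L A =
      (∑ i : Fin 5, ∑ j : Fin 5, (if i = j then 0 else A i j) • L (E K i j)) +
      ∑ k : Fin 4, (∑ l : Fin 5, if l ≤ k.castSucc then A l l else 0) • L (HK K k) := by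
    intro L
    conv_lhs => rw [decomp A hA]
    simp only [map_add, map_sum, map_smul]
  rw [key L1, key L2]
  congr 1
  · refine Finset.sum_congr rfl fun i _ => Finset.sum_congr rfl fun j _ => ?_
    by_cases hij : i = j
    · rw [if_pos hij, zero_smul, zero_smul]
    · rw [h1 i j hij]
  · refine Finset.sum_congr rfl fun k _ => ?_
    rw [h2]

/-- conjugation of a matrix unit by a transvection -/
theorem conj_single {i j : Fin 5} (hij : i ≠ j) (k l : Fin 5) (t : K) :
    transvection i j t * E K k l * transvection i j (-t) =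
      E K k l + (if j = k then t else 0) • E K i l - (if l = i then t else 0) • E K k j -
        (if j = k ∧ l = i then t ^ 2 else 0) • E K i j := by
  have e1 : Matrix.single i j t * E K k l = (if j = k then t else 0) • E K i l := by
    split_ifs with h
    · subst h
      rw [Matrix.single_mul_single_same, mul_one, Matrix.smul_single, smul_eq_mul, mul_one]
    · rw [Matrix.single_mul_single_of_ne (h := h), zero_smul]
  have e2 : ∀ (a : Fin 5), E K a l * Matrix.single i j (-t) = -((if l = i then t else 0) • E K a j) := by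
    intro a
    split_ifs with h
    · subst h
      rw [Matrix.single_mul_single_same, one_mul, Matrix.smul_single, smul_eq_mul, mul_one, Matrix.single_neg]
    · rw [Matrix.single_mul_single_of_ne (h := h), zero_smul, neg_zero]
  rw [transvection, transvection, add_mul, one_mul, mul_add, mul_one, add_mul, e2, e1, smul_mul_assoc, e2]
  by_cases h1 : j = k <;> by_cases h2 : l = i
  · simp only [h1, h2, and_self, if_true, smul_neg, smul_smul, pow_two]
    abel
  · simp only [h1, h2, and_false, if_true, if_false, zero_smul, neg_zero, smul_zero, add_zero, sub_zero]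
  · simp only [h1, h2, false_and, if_true, if_false, zero_smul, add_zero, sub_zero]
    abel
  · simp only [h1, h2, false_and, if_false, zero_smul, neg_zero, smul_zero, add_zero, sub_zero]

end Cfsg.Agent.H239.E8P
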