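import Cfsg.Agent.H610.ChevRegular
import Cfsg.Agent.ChevalleyStructure.NConjSharp
import Cfsg.Agent.ChevalleyStructure.CorootGcd

/-!
# S5925, box F (P7): the monomial subgroup on the root vectors (helper239)

Every `n ∈ N` maps the line of `e_r` onto the line of `e_{π r}`: `n e_r = c_r e_{π r}`, `n h_r = h_{π r}`,
`n x_r(t) n⁻¹ = x_{π r}(c_r t)` with the same `c_r`.
-/

set_option autoImplicit false
set_option linter.unusedSectionVars false

namespace Cfsg.Agent.H239.E8P

open Cfsg.Lie Cfsg.Agent.ChevalleyStructure Cfsg.Agent.ChevalleyStructure.Elts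
  Cfsg.Agent.ChevalleyStructure.NConj Cfsg.Agent.ChevalleyStructure.XColumns Cfsg.Agent.ChevalleyStructure.NSimple
open Cfsg.Agent.H610.ChevRegular
open scoped Matrix

universe u

variable {D : ChevalleyDatum} {F : Type u} [Field F]

/-- `g` permutes the lines of the root vectors -/
structure Mono (hD : InList D) (g : GL D.Idx F) (π : ℕ → ℕ) (c : ℕ → F) : Prop where
  lt : ∀ r < D.nroots, π r < D.nroots
  ne : ∀ r < D.nroots, c r ≠ 0
  neg : ∀ r < D.nroots, π (D.neg r) = D.neg (π r)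
  evm : ∀ r < D.nroots, (g : Matrix D.Idx D.Idx F) *ᵥ ev D F r = c r • ev D F (π r)
  corvm : ∀ r < D.nroots, (g : Matrix D.Idx D.Idx F) *ᵥ corv D F r = corv D F (π r)
  conj : ∀ r < D.nroots, ∀ t : F, g * xG hD r t = xG hD (π r) (c r * t) * g

theorem ev_inj {r s : ℕ} (hr : r < D.nroots) {a b : F} (ha : a ≠ 0) (h : a • ev D F r = b • ev D F s) : r = s := by
  have h1 := congrFun h (Sum.inr ⟨r, hr⟩)
  rw [Pi.smul_apply, Pi.smul_apply, ev_inr, ev_inr, if_pos rfl, smul_eq_mul, smul_eq_mul, mul_one] at h1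
  by_contra hne
  rw [if_neg hne, mul_zero] at h1
  exact ha h1

namespace Mono

variable {hD : InList D} {g g' : GL D.Idx F} {π π' : ℕ → ℕ} {c c' : ℕ → F}

theorem mul (h : Mono hD g π c) (h' : Mono hD g' π' c') :
    Mono hD (g * g') (fun r => π (π' r)) (fun r => c (π' r) * c' r) where
  lt r hr := h.lt _ (h'.lt r hr)
  ne r hr := mul_ne_zero (h.ne _ (h'.lt r hr)) (h'.ne r hr)
  neg r hr := by
    show π (π' (D.neg r)) = D.neg (π (π' r))
    rw [h'.neg r hr, h.neg _ (h'.lt r hr)]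
  evm r hr := by
    rw [Units.val_mul, ← Matrix.mulVec_mulVec, h'.evm r hr, Matrix.mulVec_smul, h.evm _ (h'.lt r hr), smul_smul,
      mul_comm (c' r)]
  corvm r hr := by
    rw [Units.val_mul, ← Matrix.mulVec_mulVec, h'.corvm r hr, h.corvm _ (h'.lt r hr)]
  conj r hr t := by
    rw [mul_assoc, h'.conj r hr, ← mul_assoc, h.conj _ (h'.lt r hr), mul_assoc, mul_assoc (c (π' r))]

theorem inj (h : Mono hD g π c) {r s : ℕ} (hr : r < D.nroots) (hs : s < D.nroots) (he : π r = π s) : r = s := by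
  have h1 : (g : Matrix D.Idx D.Idx F) *ᵥ (c s • ev D F r) = (g : Matrix D.Idx D.Idx F) *ᵥ (c r • ev D F s) := by
    rw [Matrix.mulVec_smul, Matrix.mulVec_smul, h.evm r hr, h.evm s hs, smul_smul, smul_smul, he, mul_comm]
  have h2 : c s • ev D F r = c r • ev D F s := by
    have h3 := congrArg (fun v => ((g⁻¹ : GL D.Idx F) : Matrix D.Idx D.Idx F) *ᵥ v) h1
    simp only [Matrix.mulVec_mulVec] at h3
    rw [← Units.val_mul, inv_mul_cancel, Units.val_one, Matrix.one_mulVec, Matrix.one_mulVec] at h3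
    exact h3
  exact ev_inj hr (h.ne s hs) h2

theorem surj (h : Mono hD g π c) {r : ℕ} (hr : r < D.nroots) : ∃ s < D.nroots, π s = r := by
  let f : Fin D.nroots → Fin D.nroots := fun s => ⟨π s, h.lt s s.2⟩
  have hf : Function.Injective f := by
    intro a b hab
    exact Fin.ext (h.inj a.2 b.2 (congrArg Fin.val hab))
  obtain ⟨s, hs⟩ := (Finite.surjective_of_injective hf) ⟨r, hr⟩
  exact ⟨s, s.2, congrArg Fin.val hs⟩

theorem inv (h : Mono hD g π c) : ∃ π' c', Mono hD g⁻¹ π' c' := by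
  classical
  have hneg : ∀ r < D.nroots, D.neg r < D.nroots := fun r hr => Reach.neg_lt hD hr
  refine ⟨fun r => if hr : r < D.nroots then (h.surj hr).choose else r,
    fun r => if hr : r < D.nroots then (c (h.surj hr).choose)⁻¹ else 1, ?_⟩
  have key : ∀ r (hr : r < D.nroots), (h.surj hr).choose < D.nroots ∧ π (h.surj hr).choose = r :=
    fun r hr => (h.surj hr).choose_spec
  refine ⟨fun r hr => ?_, fun r hr => ?_, fun r hr => ?_, fun r hr => ?_, fun r hr => ?_, fun r hr t => ?_⟩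
  · rw [dif_pos hr]
    exact (key r hr).1
  · rw [dif_pos hr]
    exact inv_ne_zero (h.ne _ (key r hr).1)
  · rw [dif_pos hr, dif_pos (hneg r hr)]
    refine h.inj (key _ (hneg r hr)).1 (hneg _ (key r hr).1) ?_
    rw [(key _ (hneg r hr)).2, h.neg _ (key r hr).1, (key r hr).2]
  · rw [dif_pos hr, dif_pos hr]
    obtain ⟨k1, k2⟩ := key r hr
    have h1 := h.evm _ k1
    rw [k2] at h1
    have h3 := congrArg (fun v => ((g⁻¹ : GL D.Idx F) : Matrix D.Idx D.Idx F) *ᵥ v) h1
    simp only [Matrix.mulVec_mulVec, Matrix.mulVec_smul] at h3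
    rw [← Units.val_mul, inv_mul_cancel, Units.val_one, Matrix.one_mulVec] at h3
    rw [h3, smul_smul, inv_mul_cancel₀ (h.ne _ k1), one_smul]
  · rw [dif_pos hr]
    obtain ⟨k1, k2⟩ := key r hr
    have h1 := h.corvm _ k1
    rw [k2] at h1
    have h3 := congrArg (fun v => ((g⁻¹ : GL D.Idx F) : Matrix D.Idx D.Idx F) *ᵥ v) h1
    simp only [Matrix.mulVec_mulVec] at h3
    rw [← Units.val_mul, inv_mul_cancel, Units.val_one, Matrix.one_mulVec] at h3
    exact h3.symm
  · rw [dif_pos hr, dif_pos hr]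
    obtain ⟨k1, k2⟩ := key r hr
    have h1 := h.conj _ k1 ((c (h.surj hr).choose)⁻¹ * t)
    rw [k2, ← mul_assoc, mul_inv_cancel₀ (h.ne _ k1), one_mul] at h1
    rw [inv_mul_eq_iff_eq_mul, ← mul_assoc, h1, mul_inv_cancel_right]

end Mono

theorem mono_diag (hD : InList D) {h : GL D.Idx F} {χ : ℕ → F} (hh : Chi hD h χ) :
    Mono hD h (fun r => r) χ where
  lt r hr := hr
  ne r _ := hh.ne r
  neg _ _ := rfl
  evm r hr := by
    funext a
    rw [hh.mat, Matrix.mulVec_diagonal, Pi.smul_apply, smul_eq_mul]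
    rcases a with i | v
    · rw [ev_inl, mul_zero, mul_zero]
    · rw [ev_inr, Sum.elim_inr]
      by_cases hv : v.val = r
      · rw [if_pos hv, hv]
      · rw [if_neg hv, mul_zero, mul_zero]
  corvm r hr := by
    funext a
    rw [hh.mat, Matrix.mulVec_diagonal]
    rcases a with i | v
    · rw [Sum.elim_inl, one_mul]
    · rw [corv_inr, mul_zero]
  conj r hr t := by
    rw [← hh.conj r hr t, inv_mul_cancel_right]

theorem mono_nS (hD : InList D) {i : ℕ} (hi : i < D.rank) :
    Mono hD (nS hD F i) (D.reflectRoot i) (fun r => ((eta D i r : ℤ) : F)) := by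
  have h := NSimpleAll.facts hD hi
  have G := RootComb.good_of_mem hD
  have hmat : ((nS hD F i : GL D.Idx F) : Matrix D.Idx D.Idx F) = D.nMat F (D.simple i) 1 := coe_nG hD (D.simple i) 1
  have hev : ∀ r < D.nroots, ((nS hD F i : GL D.Idx F) : Matrix D.Idx D.Idx F) *ᵥ ev D F r =
      ((eta D i r : ℤ) : F) • ev D F (D.reflectRoot i r) := by
    intro r hr
    rw [hmat]
    exact NConjSharp.N_ev h hr
  have hcorv : ∀ r < D.nroots, ((nS hD F i : GL D.Idx F) : Matrix D.Idx D.Idx F) *ᵥ corv D F r =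
      corv D F (D.reflectRoot i r) := by
    intro r hr
    rw [hmat]
    exact NConjSharp.N_corv h G hi hr
  have e2 : ∀ q < D.nroots, ((eta D i q : ℤ) : F) * ((eta D i q : ℤ) : F) = 1 := by
    intro q hq
    rcases h.eta_one q hq with h1 | h1 <;> rw [h1] <;> simp
  refine ⟨fun r hr => h.reflect_lt r hr, fun r hr h0 => ?_, fun r hr => G.reflect_neg hi hr, hev, hcorv,
    fun r hr t => ?_⟩
  · have := e2 r hr
    rw [h0, mul_zero] at this
    exact zero_ne_one this
  · obtain ⟨η, hη, h1, -⟩ := conj_x (F := F) hD hi hr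
    have hng : D.neg r < D.nroots := Reach.neg_lt hD hr
    have hne : D.neg r ≠ r := (Good.goodAt_of_mem D hD r hr).neg_ne
    have hw := h.reflect_lt r hr
    have hngw : D.neg (D.reflectRoot i r) < D.nroots := Reach.neg_lt hD hw
    have hnew : D.neg (D.reflectRoot i r) ≠ D.reflectRoot i r := (Good.goodAt_of_mem D hD _ hw).neg_ne
    -- compare on `e_{-r}` for `t = 1`
    have k1 : ((nS hD F i * xG hD r (1 : F) : GL D.Idx F) : Matrix D.Idx D.Idx F) *ᵥ ev D F (D.neg r) =
        ((xG hD (D.reflectRoot i r) (η * 1) * nS hD F i : GL D.Idx F) : Matrix D.Idx D.Idx F) *ᵥ ev D F (D.neg r) := by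
      rw [← h1 1, inv_mul_cancel_right]
    rw [Units.val_mul, Units.val_mul, ← Matrix.mulVec_mulVec, ← Matrix.mulVec_mulVec, coe_xG, coe_xG,
      x_mulVec_ev_neg hr hng hne, hev _ hng, Matrix.mulVec_smul, G.reflect_neg hi hr,
      x_mulVec_ev_neg hw hngw hnew, Matrix.mulVec_sub, Matrix.mulVec_add, Matrix.mulVec_smul, Matrix.mulVec_smul,
      hcorv r hr, hev r hr, hev _ hng, G.reflect_neg hi hr] at k1
    obtain ⟨j, hj⟩ := CorootGcd.exists_coroot_ne_zero (F := F) hD hw
    have k2 := congrFun k1 (Sum.inl j)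
    simp only [Pi.sub_apply, Pi.add_apply, Pi.smul_apply, ev_inl, corv_inl, smul_eq_mul, mul_zero, sub_zero, zero_add,
      one_mul, mul_one] at k2
    have k3 : ((eta D i (D.neg r) : ℤ) : F) * η = 1 := by
      have : (((eta D i (D.neg r) : ℤ) : F) * η - 1) *
          (((D.coroot.getD (D.reflectRoot i r) #[]).getD j.val 0 : ℤ) : F) = 0 := by
        rw [sub_mul, one_mul, mul_assoc, ← k2, sub_self]
      rcases mul_eq_zero.1 this with h3 | h3
      · exact sub_eq_zero.1 h3
      · exact absurd h3 hj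
    have k4 : ((eta D i (D.neg r) : ℤ) : F) * ((eta D i r : ℤ) : F) = 1 := by
      rw [mul_comm, ← Int.cast_mul, h.eta_mul_neg r hr, Int.cast_one]
    have k5 : η = ((eta D i r : ℤ) : F) := by
      have h0 : ((eta D i (D.neg r) : ℤ) : F) ≠ 0 := left_ne_zero_of_mul_eq_one k3
      exact mul_left_cancel₀ h0 (k3.trans k4.symm)
    rw [← k5, ← h1 t, inv_mul_cancel_right]

/-- every element of `N` permutes the lines of the root vectors -/
theorem exists_mono (hD : InList D) {n : GL D.Idx F} (hn : n ∈ D.monomialSubgroup F) :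
    ∃ π c, Mono hD n π c := by
  let K : Subgroup (GL D.Idx F) :=
    { carrier := {g | ∃ π c, Mono hD g π c}
      mul_mem' := by
        rintro a b ⟨π, c, h⟩ ⟨π', c', h'⟩
        exact ⟨_, _, h.mul h'⟩
      one_mem' := ⟨_, _, mono_diag hD (chi_one hD)⟩
      inv_mem' := by
        rintro a ⟨π, c, h⟩
        exact h.inv }
  have hK : D.monomialSubgroup F ≤ K :=
    monomial_le_of hD (fun h hh => by
      obtain ⟨χ, hχ⟩ := exists_chi hD hh
      exact ⟨_, _, mono_diag hD hχ⟩) (fun i hi => ⟨_, _, mono_nS hD hi⟩)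
  exact hK hn

end Cfsg.Agent.H239.E8P
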